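import Mathlib
import Groth.Agent.GeomComp5.Constancy
import Groth.Agent.GeomField.Irreducible
import Groth.Agent.Stein5.OneComp

/-!
# Noetherian approximation with conditions on the geometric fibres
-/

set_option autoImplicit false
universe u

open AlgebraicGeometry CategoryTheory CategoryTheory.Limits

namespace Groth.Agent.GeomApprox

open GeomComp5 (level level_preimage)

theorem geometricallyIrreducible_fiber_iff {X Y : Scheme.{u}} (f : X ⟶ Y)
    (y : Y) :
    GeometricallyIrreducible (f.fiberToSpecResidueField y) ↔ MoreMor.nGeomIrredComp f y = 1 := by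
  constructor
  · intro h
    haveI : IrreducibleSpace ↥(MoreMor.geomFiber f y) :=
      GeometricallyIrreducible.geometrically_irreducibleSpace (f := f.fiberToSpecResidueField _) _ _ _
        (.of_hasPullback _ _)
    show (irreducibleComponents ↥(MoreMor.geomFiber f y)).encard = 1
    rw [irreducibleComponents_eq_singleton]
    exact Set.encard_singleton _
  · intro h
    letI : (f.fiber y).Over (Spec (CommRingCat.of (Y.residueField y))) :=
      ⟨f.fiberToSpecResidueField y⟩
    refine GeomField.geometricallyIrreducible_of_separableClosure (k := Y.residueField y)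
      (X := f.fiber y) ?_
    show IrreducibleSpace ↥(MoreMor.geomFiber f y)
    obtain ⟨C, hC⟩ := Set.encard_eq_one.1 h
    have hcov : C = Set.univ := by
      refine Set.eq_univ_of_forall fun z => ?_
      have : irreducibleComponent z = C := by
        simpa [hC] using irreducibleComponent_mem_irreducibleComponents z
      exact this ▸ mem_irreducibleComponent
    exact irreducibleSpace_def _ |>.2
      (Set.top_eq_univ.symm ▸ hcov ▸ (hC.ge rfl : C ∈ irreducibleComponents _).1)

theorem geometricallyIrreducible_iff_level {X Y : Scheme.{u}} (f : X ⟶ Y) :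
    GeometricallyIrreducible f ↔ level (fun a _ => a = 1) f = Set.univ := by
  rw [GeometricallyIrreducible.iff_geometricallyIrreducible_fiber, Set.eq_univ_iff_forall]
  exact forall_congr' fun y => geometricallyIrreducible_fiber_iff f y

theorem geometricallyConnected_iff_level {X Y : Scheme.{u}} (f : X ⟶ Y)
    [LocallyOfFiniteType f] [QuasiCompact f] :
    GeometricallyConnected f ↔ level (fun _ b => b = 1) f = Set.univ := by
  rw [GeometricallyConnected.iff_geometricallyConnected_fiber, Set.eq_univ_iff_forall]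
  refine forall_congr' fun y => ⟨fun h => ?_, fun h => ?_⟩
  · exact Stein5.one_of_geometricallyConnected f y
  · exact Stein5.geometricallyConnected_fibre_of_one f y h

theorem exists_subring_comap_ne {A : Type u} [CommRing A] (R₀ : Subalgebra ℤ A) (hR₀ : R₀.FG)
    {E : Set (PrimeSpectrum R₀)} (hE : Topology.IsConstructible E)
    (hpre : ∀ q : PrimeSpectrum A, PrimeSpectrum.comap (algebraMap R₀ A) q ∉ E) :
    ∃ (R₁ : Subalgebra ℤ A) (hle : R₀ ≤ R₁), R₁.FG ∧
      ∀ q : PrimeSpectrum R₁, PrimeSpectrum.comap (Subalgebra.inclusion hle).toRingHom q ∉ E := by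
  classical
  obtain ⟨S, hS⟩ := PrimeSpectrum.exists_constructibleSetData_iff.mpr hE
  have h1 : ∀ C ∈ S, ∃ (m : ℕ) (c : Fin C.n → A),
      ∑ i, c i * (C.g i : A) = (C.f : A) ^ m := by
    intro C hC
    have h : (C.f : A) ∈ (Ideal.span (Set.range fun i => (C.g i : A))).radical := by
      rw [← PrimeSpectrum.vanishingIdeal_zeroLocus_eq_radical, PrimeSpectrum.mem_vanishingIdeal]
      intro q hq
      by_contra hf
      apply hpre q
      rw [← hS]
      simp only [PrimeSpectrum.ConstructibleSetData.toSet, Set.mem_iUnion]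
      refine ⟨C, hC, ?_⟩
      simp only [PrimeSpectrum.BasicConstructibleSetData.toSet, Set.mem_diff,
        PrimeSpectrum.mem_zeroLocus, Set.range_subset_iff, Set.singleton_subset_iff,
        PrimeSpectrum.comap_asIdeal, SetLike.mem_coe, Ideal.mem_comap]
      rw [PrimeSpectrum.mem_zeroLocus, SetLike.coe_subset_coe, Ideal.span_le,
        Set.range_subset_iff] at hq
      exact ⟨hq, hf⟩
    obtain ⟨m, hm⟩ := h
    obtain ⟨c, hc⟩ := Ideal.mem_span_range_iff_exists_fun.mp hm
    exact ⟨m, c, hc⟩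
  choose m c hc using h1
  let T : Finset A := S.attach.biUnion fun C => Finset.univ.image (c C.1 C.2)
  refine ⟨R₀ ⊔ Algebra.adjoin ℤ (T : Set A), le_sup_left, hR₀.sup ⟨T, rfl⟩, ?_⟩
  intro q hq
  rw [← hS] at hq
  simp only [PrimeSpectrum.ConstructibleSetData.toSet, Set.mem_iUnion] at hq
  obtain ⟨C, hC, hq⟩ := hq
  simp only [PrimeSpectrum.BasicConstructibleSetData.toSet, Set.mem_diff,
    PrimeSpectrum.mem_zeroLocus, Set.range_subset_iff, Set.singleton_subset_iff,
    PrimeSpectrum.comap_asIdeal, SetLike.mem_coe, Ideal.mem_comap] at hq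
  refine hq.2 (q.isPrime.mem_of_pow_mem (m C hC) ?_)
  have hmem : ∀ i, c C hC i ∈ R₀ ⊔ Algebra.adjoin ℤ (T : Set A) := fun i =>
    (le_sup_right : Algebra.adjoin ℤ (T : Set A) ≤ _) (Algebra.subset_adjoin (by
      simp only [T, Finset.coe_biUnion, Set.mem_iUnion, Finset.coe_image]
      exact ⟨⟨C, hC⟩, Finset.mem_attach _ _, i, by simp, rfl⟩))
  have e : (Subalgebra.inclusion (le_sup_left : R₀ ≤ R₀ ⊔ Algebra.adjoin ℤ (T : Set A))).toRingHom
      C.f ^ m C hC = ∑ i, (⟨c C hC i, hmem i⟩ : ↥(R₀ ⊔ Algebra.adjoin ℤ (T : Set A))) *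
        (Subalgebra.inclusion (le_sup_left : R₀ ≤ R₀ ⊔ Algebra.adjoin ℤ (T : Set A))).toRingHom
          (C.g i) := by
    apply Subtype.ext
    simpa using (hc C hC).symm
  rw [e]
  exact q.asIdeal.sum_mem fun i _ => Ideal.mul_mem_left _ _ (hq.1 i)

/-- A condition on the counts of geometric components which holds on every fibre of a finitely
presented morphism of affine schemes holds on every fibre of some model of finite type over `ℤ`. -/
theorem exists_model (φ : ℕ∞ → ℕ∞ → Prop) {X S : Scheme.{u}} (f : X ⟶ S) [IsAffine X] [IsAffine S]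
    [LocallyOfFinitePresentation f] (h : level φ f = Set.univ) :
    ∃ (X₀ S₀ : Scheme.{u}) (f₀ : X₀ ⟶ S₀) (g : S ⟶ S₀) (g' : X ⟶ X₀), IsAffine X₀ ∧ IsAffine S₀ ∧
      IsPullback g' f f₀ g ∧ Algebra.FiniteType ℤ Γ(S₀, ⊤) ∧ LocallyOfFiniteType f₀ ∧
      QuasiCompact f₀ ∧ level φ f₀ = Set.univ := by
  algebraize [f.appTop.hom]
  haveI : Algebra.FinitePresentation Γ(S, ⊤) Γ(X, ⊤) :=
    (HasRingHomProperty.iff_of_isAffine (P := @LocallyOfFinitePresentation) (f := f)).mp inferInstance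
  let P := Algebra.Presentation.ofFinitePresentation Γ(S, ⊤) Γ(X, ⊤)
  obtain ⟨R₀, hR₀fg, hR₀⟩ : ∃ R₀ : Subalgebra ℤ Γ(S, ⊤), R₀.FG ∧ P.coeffs ⊆ (R₀ : Set Γ(S, ⊤)) :=
    ⟨P.core, Subalgebra.fg_def.mpr ⟨P.coeffs, P.finite_coeffs, rfl⟩, P.coeffs_subset_core⟩
  haveI : P.HasCoeffs R₀ := ⟨hR₀.trans (by simp [Subalgebra.algebraMap_eq])⟩
  let B₀ := P.ModelOfHasCoeffs R₀
  let f₀ : Spec (.of B₀) ⟶ Spec (.of R₀) := Spec.map (CommRingCat.ofHom (algebraMap R₀ B₀))
  let g₀ : S ⟶ Spec (.of R₀) :=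
    S.isoSpec.hom ≫ Spec.map (CommRingCat.ofHom (algebraMap R₀ Γ(S, ⊤)))
  let j : CommRingCat.of B₀ ⟶ Γ(X, ⊤) := CommRingCat.ofHom
    (((P.tensorModelOfHasCoeffsEquiv R₀).toAlgHom.restrictScalars R₀).comp
      Algebra.TensorProduct.includeRight).toRingHom
  have hpo : IsPushout (CommRingCat.ofHom (algebraMap R₀ Γ(S, ⊤)))
      (CommRingCat.ofHom (algebraMap R₀ B₀)) f.appTop j := by
    refine (CommRingCat.isPushout_tensorProduct R₀ Γ(S, ⊤) B₀).of_iso (Iso.refl _) (Iso.refl _)
      (Iso.refl _) (P.tensorModelOfHasCoeffsEquiv R₀).toRingEquiv.toCommRingCatIso ?_ ?_ ?_ ?_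
    · simp
    · simp
    · ext a
      exact AlgEquiv.commutes (P.tensorModelOfHasCoeffsEquiv R₀) a
    · exact CommRingCat.hom_ext (RingHom.ext fun b => rfl)
  have hsq : IsPullback (X.isoSpec.hom ≫ Spec.map j) f f₀ g₀ :=
    (isPullback_SpecMap_of_isPushout _ _ _ _ hpo).flip.of_iso X.isoSpec.symm (Iso.refl _)
      S.isoSpec.symm (Iso.refl _) (by simp) (by simp [Scheme.isoSpec_inv_naturality]) (by simp [f₀])
      (by simp [g₀])
  haveI : LocallyOfFinitePresentation f₀ :=
    (HasRingHomProperty.Spec_iff (P := @LocallyOfFinitePresentation)).mpr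
      (RingHom.finitePresentation_algebraMap.mpr inferInstance)
  have hcons : Topology.IsConstructible (level φ f₀)ᶜ :=
    ((GeomComp5.isLocallyConstructible_level φ f₀).isConstructible).compl
  have hpre : ∀ q : PrimeSpectrum Γ(S, ⊤),
      PrimeSpectrum.comap (algebraMap R₀ Γ(S, ⊤)) q ∉ (level φ f₀)ᶜ := by
    intro q hq
    have h1 : S.isoSpec.inv q ∈ g₀ ⁻¹' level φ f₀ := by
      rw [← level_preimage φ hsq, h]; trivial
    apply hq
    have e : g₀ (S.isoSpec.inv q) = PrimeSpectrum.comap (algebraMap R₀ Γ(S, ⊤)) q := by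
      have : S.isoSpec.inv ≫ g₀ = Spec.map (CommRingCat.ofHom (algebraMap R₀ Γ(S, ⊤))) := by
        simp [g₀]
      rw [← Scheme.Hom.comp_apply, this]
      rfl
    exact e ▸ h1
  obtain ⟨R₁, hle, hR₁fg, hR₁⟩ := exists_subring_comap_ne R₀ hR₀fg hcons hpre
  let u₁ : Spec (.of R₁) ⟶ Spec (.of R₀) :=
    Spec.map (CommRingCat.ofHom (Subalgebra.inclusion hle).toRingHom)
  let g₁ : S ⟶ Spec (.of R₁) :=
    S.isoSpec.hom ≫ Spec.map (CommRingCat.ofHom (algebraMap R₁ Γ(S, ⊤)))
  have hg : g₁ ≫ u₁ = g₀ := by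
    simp only [g₁, u₁, g₀, Category.assoc, ← Spec.map_comp]
    rfl
  have hsq' : IsPullback (X.isoSpec.hom ≫ Spec.map j) f f₀ (g₁ ≫ u₁) := hg ▸ hsq
  let g' : X ⟶ pullback f₀ u₁ := pullback.lift (X.isoSpec.hom ≫ Spec.map j) (f ≫ g₁)
    (by rw [hsq'.w]; simp [g₁])
  refine ⟨pullback f₀ u₁, Spec (.of R₁), pullback.snd f₀ u₁, g₁, g', inferInstance, inferInstance,
    ?_, ?_, inferInstance, inferInstance, ?_⟩
  · refine IsPullback.of_right ?_ (pullback.lift_snd _ _ _) (IsPullback.of_hasPullback f₀ u₁)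
    rw [pullback.lift_fst]; exact hsq'
  · haveI : Algebra.FiniteType ℤ R₁ := ⟨(Subalgebra.fg_top _).mpr hR₁fg⟩
    let e : R₁ ≃+* Γ(Spec (.of R₁), ⊤) :=
      (Scheme.ΓSpecIso (.of R₁)).symm.commRingCatIsoToRingEquiv
    exact Algebra.FiniteType.equiv inferInstance e.toIntAlgEquiv
  · rw [level_preimage φ (IsPullback.of_hasPullback f₀ u₁), Set.eq_univ_iff_forall]
    intro q
    exact not_not.mp (hR₁ q)

end Groth.Agent.GeomApprox
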